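/-
Matrices of degree 78 over a field with an element `ω`, `ω² = ω + 1`, of characteristic two, packed into one natural number.
-/
import Cfsg.Agent.Lib.MatB.F2

set_option autoImplicit false

namespace Cfsg.Lib.E6F

open Cfsg.Lib.Comp Cfsg.Lib.MatB Cfsg.Lib.MatB.F2 Matrix

/-- The product of two coded matrices. -/
noncomputable def mu4 (R A B : ℕ) : ℕ :=
  force A fun a => force B fun b => force (Nat.shiftRight a 6084) fun a1 => force (Nat.shiftRight b 6084) fun b1 =>
    force (mmR 78 R a b) fun c => Nat.xor (look (Nat.xor c (mmR 78 R a1 b1)) 6084 0)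
      (Nat.shiftLeft (Nat.xor c (mu 78 R (Nat.xor a a1) (Nat.xor b b1))) 6084)

theorem bt_lo (x y : ℕ) {p : ℕ} (hp : p < 6084) : bt (Nat.xor (look x 6084 0) (Nat.shiftLeft y 6084)) p = bt x p := by
  rw [xor_eq', bt_xor, shl_eq]
  unfold bt
  rw [testBit_look, Nat.testBit_shiftLeft, decide_eq_true hp, decide_eq_false (show ¬ p ≥ 6084 by omega)]
  simp

theorem bt_hi (x y p : ℕ) : bt (Nat.xor (look x 6084 0) (Nat.shiftLeft y 6084)) (6084 + p) = bt y p := by
  rw [xor_eq', bt_xor, shl_eq]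
  unfold bt
  rw [testBit_look, Nat.testBit_shiftLeft, decide_eq_false (show ¬ 6084 + p < 6084 by omega),
    decide_eq_true (show 6084 + p ≥ 6084 by omega), Nat.add_sub_cancel_left]
  simp

theorem bt_shr (x p : ℕ) : bt (Nat.shiftRight x 6084) p = bt x (6084 + p) := by
  unfold bt; rw [shr_eq, Nat.testBit_shiftRight]

variable {ι K : Type*} [Fintype ι] [DecidableEq ι] [Field K] (φ : ZMod 2 →+* K) (ω : K) (e : ι ≃ Fin 78)

/-- The matrix coded by `A`. -/
def tK (A : ℕ) : Matrix ι ι K := Matrix.of fun i j => φ (bt A (e i * 78 + e j)) + ω * φ (bt A (6084 + (e i * 78 + e j)))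

omit [Fintype ι] [DecidableEq ι] in
theorem tK_xor (A B : ℕ) : tK φ ω e (Nat.xor A B) = tK φ ω e A + tK φ ω e B := by
  ext i j
  simp only [tK, of_apply, Matrix.add_apply, xor_eq', bt_xor, map_add]
  ring

variable {ω}

omit [DecidableEq ι] in
theorem tK_mu4 (hω : ω ^ 2 = ω + 1) (A B : ℕ) : tK φ ω e (mu4 (rep 78 78) A B) = tK φ ω e A * tK φ ω e B := by
  ext i k
  have h2 : (2 : K) = 0 := by rw [← map_ofNat φ 2]; exact (congrArg φ rfl).trans (map_zero φ)
  have hi := (e i).2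
  have hk := (e k).2
  have h1 : (e i : ℕ) * 78 + e k < 6084 := by omega
  rw [mul_apply, ← e.symm.sum_comp]
  simp only [tK, of_apply, Equiv.apply_symm_apply, mu4, force_eq, mu]
  rw [bt_lo _ _ h1, bt_hi, xor_eq', xor_eq', bt_xor, bt_xor, bt_mmR hi hk, bt_mmR hi hk, bt_mmR hi hk,
    ← Finset.sum_add_distrib, ← Finset.sum_add_distrib, map_sum, map_sum, Finset.mul_sum, ← Finset.sum_add_distrib, Finset.sum_range]
  refine Finset.sum_congr rfl fun j _ => ?_
  simp only [xor_eq', bt_xor, bt_shr, map_add, map_mul]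
  linear_combination (-(φ (bt A (6084 + (e i * 78 + j))) * φ (bt B (6084 + (j * 78 + e k))))) * hω +
    ω * φ (bt A (e i * 78 + j)) * φ (bt B (j * 78 + e k)) * h2

omit [Fintype ι] in
theorem tK_one' : tK φ ω e 1 = single (e.symm 0) (e.symm 0) 1 := by
  ext i j
  have : ∀ p, bt 1 p = if p = 0 then 1 else 0 := fun p => by
    unfold bt; cases p <;> simp [Nat.testBit_succ]
  rw [tK, of_apply, this, this, if_neg (show ¬ 6084 + ((e i : ℕ) * 78 + e j) = 0 by omega), map_zero, mul_zero, add_zero, single_apply]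
  simp only [Equiv.symm_apply_eq, Fin.ext_iff, apply_ite φ, map_one, map_zero]
  exact if_congr (by simp; omega) rfl rfl

/-- Constants. -/
structure Cx (R I : ℕ) : Prop where
  hω : ω ^ 2 = ω + 1
  hR : R = rep 78 78
  hI : tK φ ω e I = 1

omit [Fintype ι] [DecidableEq ι] in
theorem tK_lo {A : ℕ} (h : Nat.shiftRight A 6084 = 0) : tK φ ω e A = (Matrix.of fun i j => bt A (e i * 78 + e j)).map φ := by
  ext i j
  rw [tK, of_apply, ← bt_shr, h, show ∀ p, bt 0 p = 0 by simp [bt], map_zero, mul_zero, add_zero]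
  rfl

/-- Value of a word. -/
noncomputable def evM (R I : ℕ) (T : ℕ → ℕ) (w : List ℕ) : ℕ :=
  List.rec (motive := fun _ => ℕ) I (fun x _ ih => mu4 R (T x) ih) w

/-- Powers. -/
noncomputable def pwM (R I A n : ℕ) : ℕ := force A fun a => Nat.rec (motive := fun _ => ℕ) I (fun _ ih => mu4 R a ih) n

theorem pwM_succ (R I A n : ℕ) : pwM R I A (n + 1) = mu4 R A (pwM R I A n) := by
  unfold pwM; rw [force_eq, force_eq]

/-- Conjugates of the letter `0` by involutions. -/
noncomputable def cjM (R : ℕ) (S : ℕ → ℕ) (w : List ℕ) : ℕ :=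
  List.rec (motive := fun _ => ℕ) (S 0) (fun x _ ih => mu4 R (mu4 R (S x) ih) (S x)) w

/-- The product of the `T x + 1`. -/
noncomputable def thM (R I : ℕ) (T : ℕ → ℕ) (w : List ℕ) : ℕ :=
  List.rec (motive := fun _ => ℕ) I (fun x _ ih => mu4 R (Nat.xor (T x) I) ih) w

/-- Spinning. -/
noncomputable def spM (R : ℕ) (T : ℕ → ℕ) (D : List (ℕ × ℕ)) : List ℕ → ℕ → ℕ → ℕ :=
  List.rec (motive := fun _ => List ℕ → ℕ → ℕ → ℕ) (fun _ _ P => P)
    (fun d _ ih acc k P => force (mu4 R (nth 0 acc d.1) (T d.2)) fun c => force (Nat.add k 78) fun k' =>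
      force (Nat.xor P (mu4 R (Nat.shiftLeft 1 k') c)) fun P' => ih (c :: acc) k' P') D

variable {φ e} {R I : ℕ} (C : Cx φ (ω := ω) e R I)
include C

theorem Cx.mul (A B : ℕ) : tK φ ω e (mu4 R A B) = tK φ ω e A * tK φ ω e B := C.hR ▸ tK_mu4 φ e C.hω A B

theorem Cx.ev (T : ℕ → ℕ) (w : List ℕ) : tK φ ω e (evM R I T w) = ev (fun x => tK φ ω e (T x)) w := by
  induction w with
  | nil => exact C.hI
  | cons x t ih => rw [ev_cons, ← ih]; exact C.mul _ _

theorem Cx.pow (A n : ℕ) : tK φ ω e (pwM R I A n) = tK φ ω e A ^ n := by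
  induction n with
  | zero => exact C.hI
  | succ n ih => rw [pow_succ', ← ih, pwM_succ, C.mul]

theorem Cx.cj {G : Submonoid (Matrix ι ι K)} {S : ℕ → ℕ} (h : ∀ x, tK φ ω e (S x) ∈ G) (w : List ℕ) : tK φ ω e (cjM R S w) ∈ G := by
  induction w with
  | nil => exact h 0
  | cons x t ih =>
    rw [show cjM R S (x :: t) = mu4 R (mu4 R (S x) (cjM R S t)) (S x) from rfl, C.mul, C.mul]
    exact mul_mem (mul_mem (h x) ih) (h x)

theorem Cx.th {M : Matrix ι ι K} {T : ℕ → ℕ} {w : List ℕ} (h : ∀ x ∈ w, Commute (tK φ ω e (T x)) M) : Commute (tK φ ω e (thM R I T w)) M := by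
  induction w with
  | nil => exact (show tK φ ω e I = 1 from C.hI) ▸ Commute.one_left M
  | cons x t ih =>
    rw [show thM R I T (x :: t) = mu4 R (Nat.xor (T x) I) (thM R I T t) from rfl, C.mul, tK_xor, C.hI]
    exact ((h x List.mem_cons_self).add_left (Commute.one_left M)).mul_left (ih fun y hy => h y (List.mem_cons_of_mem _ hy))

theorem Cx.sp {M : Matrix ι ι K} {a : K} {T : ℕ → ℕ} {D : List (ℕ × ℕ)} (h : ∀ d ∈ D, Commute (tK φ ω e (T d.2)) M) {acc : List ℕ} {k P : ℕ}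
    (h1 : ∀ A ∈ acc, tK φ ω e A * M = a • tK φ ω e A) (h2 : tK φ ω e P * M = a • tK φ ω e P) :
    tK φ ω e (spM R T D acc k P) * M = a • tK φ ω e (spM R T D acc k P) := by
  induction D generalizing acc k P with
  | nil => exact h2
  | cons d t ih =>
    have h3 : tK φ ω e (mu4 R (nth 0 acc d.1) (T d.2)) * M = a • tK φ ω e (mu4 R (nth 0 acc d.1) (T d.2)) := by
      rw [C.mul, Matrix.mul_assoc, (h d List.mem_cons_self).eq, ← Matrix.mul_assoc, ← Matrix.smul_mul]
      congr 1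
      rcases nth_mem 0 acc d.1 with h4 | h4
      · rw [h4, show tK φ ω e 0 = 0 by ext; simp [tK, bt]]; simp
      · exact h1 _ h4
    refine ih (acc := mu4 R (nth 0 acc d.1) (T d.2) :: acc) (k := Nat.add k 78)
      (P := Nat.xor P (mu4 R (Nat.shiftLeft 1 (Nat.add k 78)) (mu4 R (nth 0 acc d.1) (T d.2))))
      (fun y hy => h y (List.mem_cons_of_mem _ hy)) (List.forall_mem_cons.2 ⟨h3, h1⟩) ?_
    rw [tK_xor, C.mul, Matrix.add_mul, h2, Matrix.mul_assoc, h3, Matrix.mul_smul, smul_add]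

/-- A matrix commuting with the letters is a scalar. -/
theorem Cx.scalar {M : Matrix ι ι K} {T : ℕ → ℕ} {w : List ℕ} {D : List (ℕ × ℕ)} {E U Q : ℕ} (h : ∀ x ∈ w ++ D.map (·.2), Commute (tK φ ω e (T x)) M)
    (hb : force (thM R I T w) (fun θ => force (mu4 R E θ) fun Φ => cnd (Nat.beq (mu4 R 1 E) E) (cnd (Nat.beq (mu4 R U Φ) θ)
      (Nat.beq (mu4 R Q (spM R T D [Φ] 0 Φ)) I) false) false) = true) : ∃ a : K, M = a • 1 := by
  simp only [force_eq, cnd_tt, beq_tt] at hb
  obtain ⟨h1, h2, h3⟩ := hb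
  have h4 := C.th (w := w) fun x hx => h x (List.mem_append_left _ hx)
  generalize thM R I T w = θ at *
  replace h1 := congrArg (tK φ ω e) h1
  replace h2 := congrArg (tK φ ω e) h2
  replace h3 := congrArg (tK φ ω e) h3
  rw [C.mul, tK_one'] at h1
  rw [C.mul] at h2 h3
  obtain ⟨a, h5⟩ : ∃ a : K, tK φ ω e (mu4 R E θ) * M = a • tK φ ω e (mu4 R E θ) := by
    have h6 : single (e.symm 0) (e.symm 0) 1 * tK φ ω e (mu4 R E θ) = tK φ ω e (mu4 R E θ) := by
      rw [C.mul, ← Matrix.mul_assoc, h1]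
    refine ⟨(tK φ ω e E * M * tK φ ω e U) (e.symm 0) (e.symm 0), ?_⟩
    calc _ = single (e.symm 0) (e.symm 0) 1 * (tK φ ω e E * M * tK φ ω e U) * single (e.symm 0) (e.symm 0) 1 * tK φ ω e (mu4 R E θ) := by
          rw [Matrix.mul_assoc _ (single _ _ _), h6, ← Matrix.mul_assoc, ← Matrix.mul_assoc, h1, Matrix.mul_assoc, Matrix.mul_assoc, h2, ← h4.eq,
            C.mul, Matrix.mul_assoc]
      _ = _ := by
          rw [single_mul_mul_single, one_mul, mul_one]
          generalize (tK φ ω e E * M * tK φ ω e U) (e.symm 0) (e.symm 0) = b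
          rw [show single (e.symm 0) (e.symm 0) b = b • single (e.symm 0) (e.symm 0) 1 by simp, Matrix.smul_mul, h6]
  have h6 := C.sp (D := D) (acc := [mu4 R E θ]) (k := 0) (fun d hd => h _ (List.mem_append_right _ (List.mem_map_of_mem hd)))
    (List.forall_mem_singleton.2 h5) h5
  refine ⟨a, ?_⟩
  rw [← Matrix.one_mul M, ← C.hI, ← h3, Matrix.mul_assoc, h6, Matrix.mul_smul]

end Cfsg.Lib.E6F
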