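/-
Three classes of subgroups permuted by the diagonal automorphisms of the twisted group of type E6 over the field with four elements.
-/
import Cfsg.Agent.Lib.Chev.Fold2
import Cfsg.Prelude.Def_KGroupFacts

set_option autoImplicit false

namespace Cfsg.Lib.E6F

open Subgroup Function Cfsg.Lie Cfsg.Lib.Chev Cfsg.Lib.Twist

theorem three {Γ A : Type*} [Group Γ] [Group A] (G : Subgroup A) (D : ℤ → A) (hD : ∀ k l, D (k + l) = D k * D l)
    (hG : ∀ k, ∀ g ∈ G, D k * g * (D k)⁻¹ ∈ G) (f : Γ →* A) (hf : Injective f) (hfG : ∀ x, f x ∈ G)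
    (hO : Nat.card (Out Γ) = 2) (hC : ∀ k, ∀ g ∈ G, (∀ x, Commute (g * D k) (f x)) → 3 ∣ k) :
    ∃ H : Fin 3 → Subgroup G, (∀ i, Nonempty (H i ≃* Γ)) ∧ ∀ i j, i ≠ j → ∀ g : G, (H i).map (MulAut.conj g).toMonoidHom ≠ H j := by
  let ψ : Fin 3 → Γ →* G := fun k => ((MulAut.conj (D k)).toMonoidHom.comp f).codRestrict _ fun x => hG _ _ (hfG x)
  have a3 : ∀ k, Injective (ψ k) := fun k a b e => hf ((MulAut.conj (D k)).injective (congrArg Subtype.val e))
  refine ⟨fun k => (ψ k).range, fun k => ⟨(MonoidHom.ofInjective (a3 k)).symm⟩, fun i j hij g e => hij ?_⟩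
  let a : MulAut Γ := ((MonoidHom.ofInjective (a3 i)).trans ((MulAut.conj g).subgroupMap _)).trans
    ((MulEquiv.subgroupCongr e).trans (MonoidHom.ofInjective (a3 j)).symm)
  have a4 : ∀ x, ψ j (a x) = g * ψ i x * g⁻¹ := fun x => MonoidHom.apply_ofInjective_symm (a3 j) _
  have a5 : ∀ x, f (a x) = ((D j)⁻¹ * g * D i) * f x * ((D j)⁻¹ * g * D i)⁻¹ := fun x => by
    have : D j * f (a x) * (D j)⁻¹ = g * (D i * f x * (D i)⁻¹) * (g : A)⁻¹ := congrArg Subtype.val (a4 x)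
    calc f (a x) = (D j)⁻¹ * (D j * f (a x) * (D j)⁻¹) * D j := by group
      _ = _ := by rw [this]; group
  have a6 : a ^ 2 ∈ Inn Γ := by
    rw [← QuotientGroup.eq_one_iff, QuotientGroup.mk_pow, ← hO, pow_card_eq_one']
  obtain ⟨γ, hγ⟩ := a6
  have h0 : D 0 = 1 := by simpa using hD 0 0
  have h1 : ∀ k, D (-k) = (D k)⁻¹ := fun k => eq_inv_of_mul_eq_one_left (by rw [← hD, neg_add_cancel, h0])
  have a7 := hC (2 * (i : ℤ) - 2 * (j : ℤ)) _ (mul_mem (mul_mem (inv_mem (hfG γ)) (hG (-j) g g.2)) (hG (i - 2 * j) g g.2)) fun x => by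
    have b1 : f γ * f x * (f γ)⁻¹ = _ := (by rw [← map_inv, ← map_mul, ← map_mul]; exact congrArg f (DFunLike.congr_fun hγ x) :
      _ = f (a (a x))).trans ((a5 _).trans (by rw [a5]))
    have b2 : D (i - 2 * j) = D j * ((D j)⁻¹ * D i * (D j)⁻¹ * (D j)⁻¹) := by
      simp only [← h1, ← hD]; congr 1; ring
    have b3 : D (2 * (i : ℤ) - 2 * (j : ℤ)) = D (i - 2 * j) * D i := by rw [← hD]; congr 1; ring
    have b4 : (D j)⁻¹ * D (i - 2 * j) = D i * (D j)⁻¹ * (D j)⁻¹ * (D j)⁻¹ := by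
      simp only [← h1, ← hD]; congr 1; ring
    have b5 : D j * D (i - 2 * j) = D i * (D j)⁻¹ := by simp only [← h1, ← hD]; congr 1; ring
    have b6 : (f γ)⁻¹ * (D (-j) * g * (D (-j))⁻¹) * (D (i - 2 * j) * g * (D (i - 2 * j))⁻¹) * D (2 * (i : ℤ) - 2 * (j : ℤ)) =
        (f γ)⁻¹ * (((D j)⁻¹ * g * D i) * ((D j)⁻¹ * g * D i)) := by
      rw [b3, h1, inv_inv]
      calc _ = (f γ)⁻¹ * ((D j)⁻¹ * g * (D j * D (i - 2 * j)) * g * D i) := by group
        _ = _ := by rw [b5]; group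
    rw [b6]
    generalize (D j)⁻¹ * g * D i = n at b1
    calc (f γ)⁻¹ * (n * n) * f x = (f γ)⁻¹ * (n * (n * f x * n⁻¹) * n⁻¹) * (n * n) := by group
      _ = _ := by rw [← b1]; group
  exact Fin.ext (by omega)

variable {K : Type*} [Field K] (ω : Kˣ)

theorem isChar (k : ℤ) : IsChar fun v : Fin chevE6.rank → ℤ => (ω : K) ^ (k * (v (n6 0) + 2 * v (n6 5))) :=
  isChar_zpow ω.ne_zero fun v w => by simp only [Pi.add_apply]; ring

/-- The powers of the diagonal matrix. -/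
noncomputable def dg (k : ℤ) : GL chevE6.Idx K := Compat.diagU (R := RE6) (isChar ω k)

theorem dg_add (k l : ℤ) : dg ω (k + l) = dg ω k * dg ω l := Units.ext (by
  simp only [dg, Compat.diagU, Units.val_mul, Matrix.diagonal_mul_diagonal, add_mul, zpow_add₀ ω.ne_zero])

/-- The degree of a root. -/
def nr (r : ℕ) : ℤ := rtN chevE6 tabE6 r 0 + 2 * rtN chevE6 tabE6 r 5

theorem dg_x (k : ℤ) {r : ℕ} (hr : r < 72) (t : K) :
    (dg ω k).val * chevE6.x K r t = chevE6.x K r ((ω : K) ^ (k * nr r) * t) * (dg ω k).val := by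
  have := compat_E6.diag_mul_xMat matOK_E6 (isChar ω k) ⟨r, hr⟩ t
  rwa [← x_coe, ← x_coe] at this

theorem dg_norm (k : ℤ) : ∀ g ∈ twistedE6 K 2, dg ω k * g * (dg ω k)⁻¹ ∈ twistedE6 K 2 := by
  intro g hg
  refine mem_comap.1 ((map_le_iff_le_comap (f := (MulAut.conj (dg ω k)).toMonoidHom) (H := twistedE6 K 2)).1 ?_ hg)
  rw [twistedE6, ChevalleyDatum.genSubgroup, MonoidHom.map_closure, closure_le]
  rintro _ ⟨u, ⟨w, hw, hu⟩, rfl⟩
  suffices ∃ w' ∈ e6Words K 2, (dg ω k).val * chevE6.wordMat K w = chevE6.wordMat K w' * (dg ω k).val by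
    obtain ⟨w', h1, h2⟩ := this
    refine subset_closure ⟨w', h1, ?_⟩
    simp [MulAut.conj_apply, hu, h2, Matrix.mul_assoc]
  rcases hw with ⟨t, ht, r, hr, rfl⟩ | ⟨t, rs, hr, rfl⟩
  · have : r < 72 ∧ nr r = 0 := by clear hu; revert r; decide +kernel
    exact ⟨_, Or.inl ⟨t, ht, r, hr, rfl⟩, by simp [wordMat_cons, wordMat_nil, dg_x ω k this.1, this.2]⟩
  · have : rs.1 < 72 ∧ rs.2 < 72 ∧ nr rs.2 = nr rs.1 + nr rs.1 := by clear hu; revert rs; decide +kernel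
    refine ⟨_, Or.inr ⟨(ω : K) ^ (k * nr rs.1) * t, rs, hr, rfl⟩, ?_⟩
    simp only [wordMat_cons, wordMat_nil, Matrix.mul_one]
    rw [← Matrix.mul_assoc, dg_x ω k this.1, Matrix.mul_assoc, dg_x ω k this.2.1, this.2.2, Matrix.mul_assoc, mul_add, zpow_add₀ ω.ne_zero, mul_pow, sq (_ ^ _)]

theorem dg_not [Finite K] (hω : orderOf ω = 3) (h3 : ∀ t : Kˣ, t ^ 3 = 1) {k : ℤ} {g : chevE6.group K} {a : K}
    (h : (g.1 * dg ω k).val = a • 1) : 3 ∣ k := by
  have h1 : ∀ r u, g * (sE6 K).x r u * g⁻¹ = (sE6 K).x r ((ω : K) ^ (-k * nr r) * u) := fun r u => by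
    refine mul_inv_eq_iff_eq_mul.2 (Subtype.ext ?_)
    have e1 : ∀ v : GL chevE6.Idx K, Commute (g.1 * dg ω k) v := fun v => Units.ext (by
      rw [Units.val_mul _ v, Units.val_mul v, h, Matrix.smul_mul, Matrix.mul_smul, Matrix.one_mul, Matrix.mul_one])
    have e2 : dg ω (-k) * ((sE6 K).x r u).1 = ((sE6 K).x r ((ω : K) ^ (-k * nr r) * u)).1 * dg ω (-k) := Units.ext (by
      simp only [Units.val_mul, Compat.gsys_val]; exact dg_x ω (-k) r.2 u)
    have e3 : g.1 = g.1 * dg ω k * dg ω (-k) := by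
      rw [mul_assoc, ← dg_add, add_neg_cancel, show dg ω 0 = 1 by simpa using dg_add ω 0 0, mul_one]
    change g.1 * _ = _ * g.1
    rw [e3, mul_assoc _ (dg ω (-k)), e2, ← mul_assoc, (e1 _).eq, mul_assoc _ (g.1 * _)]
  let c : Fin chevE6.rank → Kˣ := fun i => ω ^ (-k * [1, 0, 0, 0, 0, 2].getD i 0)
  have h2 : ∀ i : Fin chevE6.rank, nr (RE6.simple i) = [1, 0, 0, 0, 0, 2].getD i 0 ∧ nr (RE6.neg (RE6.simple i)) = -[1, 0, 0, 0, 0, 2].getD i 0 := by
    simp only [compat_E6.neg_eq, compat_E6.simple_eq]; decide +kernel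
  have b3 : g ∈ (sE6 K).H := (compat_E6.gst matOK_E6).mem_H_of_pin (compat_E6.gsep matOK_E6) (compat_E6.gopp matOK_E6) (compat_E6.ggen matOK_E6)
    (π := 1) (c := c) (σ := fun _ => RingEquiv.refl K) fun i t =>
      ⟨(h1 _ _).trans (by rw [(h2 i).1]; simp [c]; rfl), (h1 _ _).trans (by rw [(h2 i).2]; simp [c]; rfl)⟩
  obtain ⟨t, b4⟩ := ((compat_E6.gst matOK_E6).range_torus (compat_E6.gmult matOK_E6) (List.nodup_finRange _) List.mem_finRange).ge b3
  have b5 : ∀ m, c m = ∏ k, t k ^ RE6.A k m := fun m => Units.ext (by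
    have := hprod_conj' (compat_E6.gst matOK_E6) (List.nodup_finRange _) List.mem_finRange t (RE6.simple m) 1
    rw [show PreSys.hprod _ _ t = g from b4] at this
    have := (h1 (RE6.simple m) 1).symm.trans this
    have := (compat_E6.gsep matOK_E6).x_inj this
    rw [(h2 m).1, mul_one, mul_one] at this
    simpa only [RootSys.pair_simple_simple, c, Units.val_zpow_eq_zpow_val] using this)
  have b6 := prod_zpow_comb RE6.A t fun m => [1, 0, 2, 0, 1, 2].getD m 0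
  rw [Finset.prod_eq_one (f := fun k => t k ^ _) fun k _ => by
    obtain ⟨n, hn⟩ : (3 : ℤ) ∣ ∑ m, RE6.A k m * [1, 0, 2, 0, 1, 2].getD m 0 := by simp only [RE6, rootOK_E6.R_A]; revert k; decide +kernel
    rw [hn, zpow_mul, show t k ^ (3 : ℤ) = 1 from h3 _, one_zpow]] at b6
  simp only [← b5] at b6
  simp only [c, ← zpow_mul, prod_zpow_eq, ← orderOf_dvd_iff_zpow_eq_one, hω, mul_assoc, ← Finset.mul_sum] at b6
  rw [show (∑ m : Fin chevE6.rank, _ : ℤ) = 5 by decide +kernel] at b6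
  omega

end Cfsg.Lib.E6F
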