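/-
The Fischer group Fi22 inside the twisted group of type E6 over the field with four elements.
-/
import Cfsg.Agent.Lib.E6F.B
import Cfsg.Agent.Lib.E6F.C
import Cfsg.Agent.S1696

set_option autoImplicit false

namespace Cfsg.Lib.E6F

open Subgroup Function Cfsg.Lie Cfsg.Lib.Chev Cfsg.Lib.Twist Cfsg.Lib.Comp Cfsg.Lib.MatB.F2 Cfsg.Spor

variable {K : Type*} [Field K] (φ : ZMod 2 →+* K) (ω : Kˣ)

theorem cx (hω : (ω : K) ^ 2 = ω + 1) : Cx φ (ω := (ω : K)) ee RR II := ⟨hω, chk_R, by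
  rw [tK_lo φ ee chk_I.1, ← Matrix.map_one φ (map_zero φ) (map_one φ)]
  congr 1
  ext i j
  exact chk_I.2 i j⟩

theorem tK_X (k : Fin 12) : tK φ (ω : K) ee (XT k) = chevE6.x K (Comp.nth 0 rts k) 1 := by
  rw [tK_lo φ ee (chk_X k).1, ← map_one φ, ← x_map]
  congr 1
  ext i j
  exact ((chk_X k).2 i j).symm

theorem tK_D (hω : (ω : K) ^ 2 = ω + 1) (h3 : ω ^ 3 = 1) : tK φ (ω : K) ee DD = (dg ω 1).val := by
  ext i j
  have h1 : (1 : ℤ) * (deg RE6 i (n6 0) + 2 * deg RE6 i (n6 5)) = nI i := by rw [one_mul]; cases i <;> rfl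
  have h2 : (ω : K) ^ nI i = (ω : K) ^ (nI i % 3) := by
    conv_lhs => rw [← Int.mul_ediv_add_emod (nI i) 3, zpow_add₀ ω.ne_zero, zpow_mul, show (ω : K) ^ (3 : ℤ) = 1 from
      (zpow_natCast _ 3).trans ((Units.val_pow_eq_pow_val ω 3).symm.trans (congrArg Units.val h3)), one_zpow, one_mul]
  simp only [tK, Matrix.of_apply, chk_D i j, dg, Compat.diagU, Matrix.diagonal_apply, h1, h2]
  by_cases h : i = j
  · obtain h4 | h4 | h4 : nI i % 3 = 0 ∨ nI i % 3 = 1 ∨ nI i % 3 = 2 := by omega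
    · simp [← h, h4]
    · simp [← h, h4]
    · simp [← h, h4, add_comm, ← hω]
  · simp [h]

/-- The matrices of the elements of the twisted group. -/
def Gm (K : Type*) [Field K] : Submonoid (Matrix chevE6.Idx chevE6.Idx K) := (twistedE6 K 2).toSubmonoid.map (Units.coeHom _)

theorem word_mem {w : List (ℕ × K)} (hw : w ∈ e6Words K 2) : chevE6.wordMat K w ∈ Gm K := by
  obtain ⟨u, hu⟩ : IsUnit (chevE6.wordMat K w) := by
    clear hw
    induction w with
    | nil => exact isUnit_one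
    | cons p w ih =>
      rw [wordMat_cons]
      refine IsUnit.mul ?_ ih
      by_cases h : p.1 < chevE6.nroots
      · exact ⟨_, compat_E6.x_val' matOK_E6 ⟨p.1, h⟩ p.2⟩
      · rw [ChevalleyDatum.x, dif_neg h]; exact isUnit_one
  exact ⟨u, subset_closure ⟨w, hw, hu⟩, hu⟩

theorem ST_mem (hω : (ω : K) ^ 2 = ω + 1) (h3 : ω ^ 3 = 1) (x : ℕ) : tK φ (ω : K) ee (ST x) ∈ Gm K := by
  have C := cx φ ω hω
  have h1 : ∀ k : Fin 4, tK φ (ω : K) ee (ST k) ∈ Gm K := fun k => by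
    rw [(chk_S.1 k).1, tK_X φ ω ⟨k, by omega⟩]
    have := word_mem (K := K) (Or.inl ⟨1, one_pow 2, Comp.nth 0 rts k, by revert k; decide +kernel, rfl⟩)
    rwa [wordMat_cons, wordMat_nil, Matrix.mul_one] at this
  have h2 : ∀ k : Fin 4, tK φ (ω : K) ee (ST (4 + k)) ∈ Gm K := fun k => by
    rw [(chk_S.1 k).2, C.mul, tK_X φ ω ⟨4 + 2 * k, by omega⟩, tK_X φ ω ⟨5 + 2 * k, by omega⟩]
    have := word_mem (K := K) (Or.inr ⟨1, (Comp.nth 0 rts (4 + 2 * k), Comp.nth 0 rts (5 + 2 * k)), by revert k; decide +kernel, rfl⟩)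
    rwa [wordMat_cons, wordMat_cons, wordMat_nil, Matrix.mul_one, one_pow] at this
  by_cases h : x < 4
  · exact h1 ⟨x, h⟩
  by_cases h' : x < 8
  · have := h2 ⟨x - 4, by omega⟩
    rwa [show 4 + ((⟨x - 4, by omega⟩ : Fin 4) : ℕ) = x by simp; omega] at this
  obtain ⟨y, rfl⟩ : ∃ y, x = y + 8 := ⟨x - 8, by omega⟩
  cases y with
  | zero =>
    obtain ⟨g, h4, h5⟩ := h2 0
    have h6 := congrArg (tK φ (ω : K) ee) chk_S.2
    rw [C.mul, C.mul, tK_D φ ω hω h3] at h6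
    refine ⟨_, dg_norm ω 1 g h4, ?_⟩
    change (dg ω 1).val * g.val * _ = _
    rw [show g.val = _ from h5, show 4 + ((0 : Fin 4) : ℕ) = 4 from rfl, h6, Matrix.mul_assoc, Units.mul_inv, Matrix.mul_one]
  | succ y => exact (show tK φ (ω : K) ee II = 1 from C.hI) ▸ one_mem _

theorem mem_gens (x : Fi22.Gen) : x ∈ gens := by cases x <;> decide

include φ in
theorem exists_hom (hω : (ω : K) ^ 2 = ω + 1) (h3 : ω ^ 3 = 1) : ∃ f : Fi22 →* GL chevE6.Idx K, (∀ x, f x ∈ twistedE6 K 2) ∧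
    ∀ M : Matrix chevE6.Idx chevE6.Idx K, (∀ y ≠ Fi22.Gen.a, Commute (f (PresentedGroup.of y)).val M) → ∃ a : K, M = a • 1 := by
  have C := cx φ ω hω
  have h1 : ∀ y : Fi22.Gen, ∃ g ∈ twistedE6 K 2, g.val = tK φ (ω : K) ee (TT (ix y)) := fun y => by
    rw [beq_tt.1 (allN_iff.1 chk_T (ix y) (by cases y <;> decide))]
    exact C.cj (ST_mem φ ω hω h3) _
  choose t h1 h2 using h1
  have h4 : ∀ r ∈ coxRelators Fi22.edges ∪ {r | r ∈ Fi22.extra}, FreeGroup.lift t r = 1 := by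
    rintro r (⟨x, -, y, -, rfl⟩ | hr)
    · have := congrArg (tK φ (ω : K) ee) (beq_tt.1 (allL_iff.1 (allL_iff.1 chk_cox x (mem_gens x)) y (mem_gens y)))
      rw [C.pow, C.mul, C.hI, ← h2, ← h2] at this
      exact Units.ext (by simpa using this)
    · obtain ⟨e1, e2, e3⟩ := chk_ext
      replace e1 := congrArg (tK φ (ω : K) ee) e1
      replace e2 := congrArg (tK φ (ω : K) ee) e2
      replace e3 := congrArg (tK φ (ω : K) ee) e3
      rw [C.pow, C.ev, C.hI] at e1 e2 e3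
      simp only [Comp.ev_cons, Comp.ev_nil, Matrix.mul_one] at e1 e2 e3
      simp only [Fi22.extra, Set.mem_ofPred_eq, List.mem_cons, List.not_mem_nil, or_false] at hr
      rcases hr with rfl | rfl | rfl <;> refine Units.ext ?_ <;>
        simp only [map_pow, map_mul, FreeGroup.lift_apply_of, Units.val_pow_eq_pow_val, Units.val_mul, h2, ix, Matrix.mul_assoc, Units.val_one]
      exacts [e1, e2, e3]
  refine ⟨PresentedGroup.toGroup h4, fun x => ?_, fun M hM => C.scalar (fun x hx => ?_) chk_sc⟩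
  · exact (PresentedGroup.generated_by _ ((twistedE6 K 2).comap (PresentedGroup.toGroup h4)) (fun y => by simpa using h1 y) x :)
  · obtain ⟨y, -, hy, rfl⟩ := chk_sp x hx
    simpa [h2] using hM y hy

theorem three_sub {K : Type*} [Field K] [Fintype K] (hK : Fintype.card K = 4) (O : Subgroup Fi22) (h : ∀ y ≠ Fi22.Gen.a, PresentedGroup.of y ∈ O)
    (hO : Nat.card (Out O) = 2) : ∃ H : Fin 3 → Subgroup (twistedE6 K 2),
    (∀ i, Nonempty (H i ≃* O)) ∧ ∀ i j, i ≠ j → ∀ g : twistedE6 K 2, (H i).map (MulAut.conj g).toMonoidHom ≠ H j := by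
  classical
  have hp : CharP K 2 := (exists_pow_hom (k := 1) (n := 2) Nat.prime_two hK).1
  obtain ⟨d⟩ := exists_E6Data (K := K) Nat.prime_two.isPrimePow hK
  obtain ⟨ω, hω⟩ := IsCyclic.exists_ofOrder_eq_natCard (α := Kˣ)
  rw [Nat.card_units, Nat.card_eq_fintype_card, hK] at hω
  have h3 : ∀ t : Kˣ, t ^ 3 = 1 := fun t => by
    have := pow_card_eq_one' (x := t)
    rwa [Nat.card_units, Nat.card_eq_fintype_card, hK] at this
  have h4 : (ω : K) ^ 2 = ω + 1 := by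
    have a1 : (ω : K) ^ 3 = 1 := congrArg Units.val (h3 ω)
    have a2 : (ω : K) - 1 ≠ 0 := fun e => by
      rw [show ω = 1 from Units.ext (sub_eq_zero.1 e), orderOf_one] at hω; omega
    exact mul_left_cancel₀ a2 (by linear_combination a1 + (1 - (ω : K) ^ 2) * CharTwo.two_eq_zero (R := K))
  obtain ⟨f, h5, h6⟩ := exists_hom (ZMod.castHom (dvd_refl 2) K) ω h4 (h3 ω)
  have h7 : ∀ k, ∀ g ∈ twistedE6 K 2, (∀ x : O, Commute (g * dg ω k) (f x)) → 3 ∣ k := fun k g hg hc => by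
    obtain ⟨a, ha⟩ := h6 (g * dg ω k).val fun y hy => congrArg Units.val (hc ⟨_, h y hy⟩).symm.eq
    exact dg_not ω hω h3 (g := ⟨g, (d.gen hK).1 hg⟩) ha
  have := Cfsg.Agent.S1696.result.1
  have h8 : Injective f := by
    rw [← MonoidHom.ker_eq_bot_iff]
    refine (IsSimpleGroup.eq_bot_or_eq_top_of_normal f.ker inferInstance).resolve_right fun e => ?_
    exact absurd (h7 1 1 (one_mem _) fun x => by rw [show f x = 1 from e.ge (mem_top _)]; exact Commute.one_right _) (by norm_num)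
  exact three _ (dg ω) (dg_add ω) (dg_norm ω) (f.comp O.subtype) (h8.comp O.subtype_injective) (fun x => h5 x) hO h7

end Cfsg.Lib.E6F
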